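import Cfsg.Agent.Lib.Coprime.Action2

/-!
# A nilpotent group under a coprime action of two commuting operators of prime order

Every element is a product, of fixed length, of elements fixed by the `q + 1` cyclic subgroups
generated by the pair.
-/

set_option autoImplicit false

universe u v

namespace CfsgLib.FgsC.RankThree

open scoped commutatorElement

variable {A : Type u} [Group A] {G : Type v} [Group G] [MulDistribMulAction A G]

/-- Invariance of a subgroup. -/
def Inv (K : Subgroup G) (A : Type u) [Group A] [MulDistribMulAction A G] : Prop :=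
  ∀ a : A, ∀ x ∈ K, a • x ∈ K

/-- A characteristic subgroup is invariant. -/
theorem inv_of_characteristic (K : Subgroup G) [h : K.Characteristic] : Inv K A := fun a x hx => by
  have h1 := Subgroup.characteristic_iff_map_eq.1 h (MulDistribMulAction.toMulEquiv G a)
  rw [← h1]
  exact ⟨x, hx, rfl⟩

/-- A fixed point in an invariant coset. -/
theorem coset_fixed [Finite G] {q : ℕ} [Fact q.Prime] (hcop : ¬ q ∣ Nat.card G) {a : A} (ha : a ^ q = 1)
    (N : Subgroup G) (hN : ∀ x ∈ N, a • x ∈ N) {x : G} (hx : x⁻¹ * a • x ∈ N) :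
    ∃ z ∈ N, a • (x * z) = x * z := by
  have hp : IsPGroup q (Subgroup.zpowers a) := fun g => by
    obtain ⟨k, hk⟩ := Subgroup.mem_zpowers_iff.1 g.2
    refine ⟨1, Subtype.ext ?_⟩
    rw [pow_one, Subgroup.coe_pow, ← hk, Subgroup.coe_one, ← zpow_natCast (a ^ k), ← zpow_mul, mul_comm,
      zpow_mul, zpow_natCast, ha, one_zpow]
  have hstep : ∀ y, x⁻¹ * y ∈ N → x⁻¹ * a • y ∈ N := fun y hy => by
    have : x⁻¹ * a • y = (x⁻¹ * a • x) * a • (x⁻¹ * y) := by
      rw [smul_mul', smul_inv']; group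
    rw [this]
    exact N.mul_mem hx (hN _ hy)
  have hq : 0 < q := (Fact.out : q.Prime).pos
  have hpow : ∀ (k : ℕ) (y : G), x⁻¹ * y ∈ N → x⁻¹ * (a ^ k) • y ∈ N := by
    intro k
    induction k with
    | zero => intro y hy; rwa [pow_zero, one_smul]
    | succ k ih => intro y hy; rw [pow_succ', mul_smul]; exact hstep _ (ih y hy)
  have hz : ∀ g : Subgroup.zpowers a, ∀ y : G, x⁻¹ * y ∈ N → x⁻¹ * (g : A) • y ∈ N := fun g y hy => by
    obtain ⟨k, hk⟩ := Subgroup.mem_zpowers_iff.1 g.2
    have e : (g : A) = a ^ (k % (q : ℤ)).toNat := by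
      rw [← zpow_natCast, Int.toNat_of_nonneg (Int.emod_nonneg k (by omega)), ← hk]
      conv_lhs => rw [← Int.emod_add_mul_ediv k q, zpow_add, zpow_mul, zpow_natCast, ha, one_zpow, mul_one]
    rw [e]
    exact hpow _ y hy
  letI : MulAction (Subgroup.zpowers a) {y : G // x⁻¹ * y ∈ N} :=
    { smul := fun g y => ⟨(g : A) • y.1, hz g y.1 y.2⟩
      one_smul := fun y => Subtype.ext (one_smul A y.1)
      mul_smul := fun g h y => Subtype.ext (mul_smul (g : A) (h : A) y.1) }
  have hcard : Nat.card {y : G // x⁻¹ * y ∈ N} = Nat.card N := Nat.card_congr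
    { toFun := fun y => ⟨x⁻¹ * y.1, y.2⟩
      invFun := fun z => ⟨x * z.1, by rw [inv_mul_cancel_left]; exact z.2⟩
      left_inv := fun y => Subtype.ext (mul_inv_cancel_left x y.1)
      right_inv := fun z => Subtype.ext (inv_mul_cancel_left x z.1) }
  obtain ⟨y, hy⟩ := hp.nonempty_fixed_point_of_prime_not_dvd_card {y : G // x⁻¹ * y ∈ N}
    (fun h => hcop ((hcard ▸ h).trans (Subgroup.card_subgroup_dvd_card N)))
  refine ⟨x⁻¹ * y.1, y.2, ?_⟩
  rw [mul_inv_cancel_left]
  exact congrArg Subtype.val (hy ⟨a, Subgroup.mem_zpowers a⟩)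

section Merge

variable {Q : Type v} [Group Q]

/-- Merging two products when the second consists of central elements. -/
theorem prod_merge (π : G →* Q) {ι : Type*} (f g : ι → G) (hg : ∀ i (z : Q), π (g i) * z = z * π (g i))
    (l : List ι) : π ((l.map fun i => f i * g i).prod) = π ((l.map f).prod) * π ((l.map g).prod) := by
  induction l with
  | nil => simp
  | cons i l ih =>
    simp only [List.map_cons, List.prod_cons, map_mul, ih]
    have := hg i (π (l.map f).prod)
    calc π (f i) * π (g i) * (π (l.map f).prod * π (l.map g).prod)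
        = π (f i) * (π (g i) * π (l.map f).prod) * π (l.map g).prod := by simp only [mul_assoc]
      _ = π (f i) * (π (l.map f).prod * π (g i)) * π (l.map g).prod := by rw [this]
      _ = _ := by simp only [mul_assoc]

end Merge

/-- A product with a single non-trivial factor. -/
theorem prod_single {ι : Type*} [DecidableEq ι] (l : List ι) (hl : l.Nodup) {i : ι} (hi : i ∈ l) (y : G) :
    (l.map (Pi.mulSingle i y)).prod = y := by
  induction l with
  | nil => simp at hi
  | cons j l ih =>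
    rw [List.map_cons, List.prod_cons]
    rw [List.nodup_cons] at hl
    by_cases h : j = i
    · subst h
      rw [Pi.mulSingle_eq_same, List.prod_eq_one, mul_one]
      intro x hx
      obtain ⟨k, hk, rfl⟩ := List.mem_map.1 hx
      exact Pi.mulSingle_eq_of_ne (fun e => hl.1 (by rw [← e]; exact hk)) _
    · rw [Pi.mulSingle_eq_of_ne h, one_mul]
      exact ih hl.2 ((List.mem_cons.1 hi).resolve_left (fun e => h e.symm))

variable [Finite G]

/-- The operators attached to a pair. -/
def pairOp (q : ℕ) (b d : A) : Fin (q + 1) → A := Fin.lastCases d fun i => b * d ^ (i : ℕ)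

/-- The indices. -/
def idx (q : ℕ) : List (Fin (q + 1)) := List.finRange (q + 1)

/-- The step along a section on which the group acts trivially by conjugation. -/
theorem step {q : ℕ} [Fact q.Prime] (hcop : ¬ q ∣ Nat.card G) {b d : A} (hbd : ∀ x y : A, x * y = y * x)
    (he : ∀ x : A, x ^ q = 1) (N N₀ : Subgroup G) [N₀.Normal] (hN : Inv N A) (hN₀ : Inv N₀ A) (h0 : N₀ ≤ N)
    (hc : ∀ n ∈ N, ∀ k : G, ⁅n, k⁆ ∈ N₀) :
    ∀ n ∈ N, ∃ f : Fin (q + 1) → G, (∀ i, f i ∈ N ∧ pairOp q b d i • f i = f i) ∧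
      ((idx q).map f).prod⁻¹ * n ∈ N₀ := by
  classical
  set π := QuotientGroup.mk' N₀ with hπ
  have hcen : ∀ n ∈ N, ∀ z : G ⧸ N₀, π n * z = z * π n := fun n hn z => by
    obtain ⟨k, rfl⟩ := QuotientGroup.mk'_surjective N₀ z
    rw [← commutatorElement_eq_one_iff_mul_comm, ← map_commutatorElement, ← MonoidHom.mem_ker, hπ,
      QuotientGroup.ker_mk']
    exact hc n hn k
  have hiff : ∀ (f : Fin (q + 1) → G) (n : G), ((idx q).map f).prod⁻¹ * n ∈ N₀ ↔ π ((idx q).map f).prod = π n :=
    fun f n => (QuotientGroup.eq (s := N₀)).symm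
  let Good : (Fin (q + 1) → G) → G → Prop := fun f n =>
    (∀ i, f i ∈ N ∧ pairOp q b d i • f i = f i) ∧ π ((idx q).map f).prod = π n
  let T : Subgroup N :=
    { carrier := {n | ∃ f, Good f (n : G)}
      one_mem' := ⟨fun _ => 1, fun i => ⟨N.one_mem, smul_one _⟩, by simp⟩
      mul_mem' := by
        rintro m n ⟨f, hf1, hf2⟩ ⟨g, hg1, hg2⟩
        refine ⟨fun i => f i * g i, fun i => ⟨N.mul_mem (hf1 i).1 (hg1 i).1, ?_⟩, ?_⟩
        · rw [smul_mul', (hf1 i).2, (hg1 i).2]
        · rw [prod_merge π f g (fun i z => hcen _ (hg1 i).1 z), hf2, hg2, Subgroup.coe_mul, map_mul]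
      inv_mem' := by
        rintro m ⟨f, hf1, hf2⟩
        refine ⟨fun i => (f i)⁻¹, fun i => ⟨N.inv_mem (hf1 i).1, ?_⟩, ?_⟩
        · rw [smul_inv', (hf1 i).2]
        · have := prod_merge π (fun i => (f i)⁻¹) f (fun i z => hcen _ (hf1 i).1 z) (idx q)
          simp only [inv_mul_cancel] at this
          rw [List.prod_eq_one (fun x hx => by
            obtain ⟨_, -, rfl⟩ := List.mem_map.1 hx; rfl), map_one, hf2] at this
          rw [eq_inv_of_mul_eq_one_left this.symm, Subgroup.coe_inv, map_inv] }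
  have hT0 : ∀ n : N, (n : G) ∈ N₀ → n ∈ T := fun n hn =>
    ⟨fun _ => 1, fun i => ⟨N.one_mem, smul_one _⟩, by
      rw [List.prod_eq_one (fun x hx => by obtain ⟨_, -, rfl⟩ := List.mem_map.1 hx; rfl), map_one]
      exact (by rw [← MonoidHom.mem_ker, hπ, QuotientGroup.ker_mk']; exact hn : π (n : G) = 1).symm⟩
  have hcomT : ∀ m n : N, ⁅m, n⁆ ∈ T := fun m n => hT0 _ (by
    rw [show ((⁅m, n⁆ : N) : G) = ⁅(m : G), (n : G)⁆ from map_commutatorElement N.subtype m n]
    exact hc m m.2 n)
  haveI hTn : T.Normal := ⟨fun n hn g => by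
    have : g * n * g⁻¹ = ⁅g, n⁆ * n := by rw [commutatorElement_def]; group
    rw [this]; exact T.mul_mem (hcomT g n) hn⟩
  letI : CommGroup (N ⧸ T) :=
    { (inferInstance : Group (N ⧸ T)) with
      mul_comm := fun x y => by
        obtain ⟨m, rfl⟩ := QuotientGroup.mk_surjective x
        obtain ⟨n, rfl⟩ := QuotientGroup.mk_surjective y
        rw [← QuotientGroup.mk_mul, ← QuotientGroup.mk_mul, QuotientGroup.eq]
        have : (m * n)⁻¹ * (n * m) = ⁅n⁻¹, m⁻¹⁆ := by rw [commutatorElement_def]; group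
        rw [this]; exact hcomT _ _ }
  let ψ : A → MulAut N := fun a =>
    { toFun := fun n => ⟨a • (n : G), hN a n n.2⟩
      invFun := fun n => ⟨a⁻¹ • (n : G), hN _ n n.2⟩
      left_inv := fun n => Subtype.ext (inv_smul_smul a (n : G))
      right_inv := fun n => Subtype.ext (smul_inv_smul a (n : G))
      map_mul' := fun m n => Subtype.ext (smul_mul' a (m : G) (n : G)) }
  have hTinv : ∀ (a : A) (n : N), n ∈ T → ψ a n ∈ T := by
    rintro a n ⟨f, hf1, hf2⟩
    refine ⟨fun i => a • f i, fun i => ⟨hN a _ (hf1 i).1, ?_⟩, ?_⟩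
    · rw [← mul_smul, hbd, mul_smul, (hf1 i).2]
    · rw [← hiff]
      have := hN₀ a _ ((hiff _ _).2 hf2)
      rw [smul_mul', smul_inv'] at this
      have e : a • ((idx q).map f).prod = ((idx q).map fun i => a • f i).prod := by
        have := map_list_prod (MulDistribMulAction.toMonoidHom G a) ((idx q).map f)
        simp only [MulDistribMulAction.toMonoidHom_apply, List.map_map] at this
        exact this
      rw [← e]
      exact this
  have hTmap : ∀ a : A, T.map (ψ a).toMonoidHom = T := fun a => by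
    refine le_antisymm ?_ fun n hn => ⟨ψ a⁻¹ n, hTinv _ n hn, Subtype.ext (smul_inv_smul a (n : G))⟩
    rintro _ ⟨n, hn, rfl⟩
    exact hTinv a n hn
  let Φ : A → MulAut (N ⧸ T) := fun a => QuotientGroup.congr T T (ψ a) (hTmap a)
  have hΦ : ∀ (a : A) (n : N), Φ a (n : N ⧸ T) = (ψ a n : N ⧸ T) := fun a n => rfl
  have hΦmul : ∀ a c : A, Φ a * Φ c = Φ (a * c) := fun a c => MulEquiv.ext fun w => by
    obtain ⟨n, rfl⟩ := QuotientGroup.mk_surjective w
    rw [MulAut.mul_apply, hΦ, hΦ, hΦ]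
    exact congrArg _ (Subtype.ext (mul_smul a c (n : G)).symm)
  have hΦone : Φ 1 = 1 := MulEquiv.ext fun w => by
    obtain ⟨n, rfl⟩ := QuotientGroup.mk_surjective w
    rw [hΦ]
    exact congrArg _ (Subtype.ext (one_smul A (n : G)))
  have hΦpow : ∀ (a : A) (k : ℕ), Φ a ^ k = Φ (a ^ k) := fun a k => by
    induction k with
    | zero => rw [pow_zero, pow_zero, hΦone]
    | succ k ih => rw [pow_succ, pow_succ, ih, hΦmul]
  have hfp : ∀ (i : Fin (q + 1)) (w : N ⧸ T), Φ (pairOp q b d i) w = w → w = 1 := by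
    intro i w hw
    obtain ⟨n, rfl⟩ := QuotientGroup.mk_surjective w
    rw [hΦ] at hw
    have hn := QuotientGroup.eq.1 hw.symm
    obtain ⟨z, hz, hfix⟩ := coset_fixed hcop (he (pairOp q b d i)) (T.map N.subtype) (by
        rintro _ ⟨m, hm, rfl⟩
        exact ⟨_, hTinv _ m hm, rfl⟩) (x := (n : G)) ⟨_, hn, rfl⟩
    obtain ⟨t, ht, rfl⟩ := hz
    rw [QuotientGroup.eq_one_iff]
    have hy : n * t ∈ T := by
      refine ⟨Pi.mulSingle i ((n : G) * (t : G)), fun j => ?_, ?_⟩
      · by_cases h : j = i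
        · subst h; rw [Pi.mulSingle_eq_same]; exact ⟨N.mul_mem n.2 t.2, hfix⟩
        · rw [Pi.mulSingle_eq_of_ne h]; exact ⟨N.one_mem, smul_one _⟩
      · unfold idx; rw [prod_single _ (List.nodup_finRange _) (List.mem_finRange i)]; rfl
    exact (T.mul_mem_cancel_right ht).1 hy
  have hq := (Fact.out : q.Prime)
  have hinj : ∀ w : N ⧸ T, w ^ q = 1 → w = 1 := fun w hw => by
    have h1 : orderOf w ∣ q := orderOf_dvd_of_pow_eq_one hw
    rcases (Nat.dvd_prime hq).1 h1 with h | h
    · exact orderOf_eq_one_iff.1 h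
    · exact absurd (h ▸ (orderOf_dvd_natCard w).trans ((Subgroup.card_quotient_dvd_card T).trans
        (Subgroup.card_subgroup_dvd_card N))) hcop
  intro n hn
  have h1 : ((⟨n, hn⟩ : N) : N ⧸ T) = 1 := by
    refine Coprime.eq_one_of_fixedPointFree_pair hq hinj (Φ b) (Φ d) ?_ ?_ ?_ ?_ ?_ _
    · show Φ b * Φ d = Φ d * Φ b
      rw [hΦmul, hΦmul, hbd]
    · rw [hΦpow, he, hΦone]
    · rw [hΦpow, he, hΦone]
    · intro w hw; refine hfp (Fin.last q) w ?_; rwa [pairOp, Fin.lastCases_last]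
    · intro i hi w hw
      refine hfp (Fin.castSucc ⟨i, hi⟩) w ?_
      rwa [pairOp, Fin.lastCases_castSucc, ← hΦmul, ← hΦpow]
  obtain ⟨f, hf1, hf2⟩ := (QuotientGroup.eq_one_iff _).1 h1
  exact ⟨f, hf1, (hiff f n).2 hf2⟩

/-- A nilpotent group is a product of fixed point subgroups. -/
theorem exists_decomp [Group.IsNilpotent G] {q : ℕ} [Fact q.Prime] (hcop : ¬ q ∣ Nat.card G) {b d : A}
    (hbd : ∀ x y : A, x * y = y * x) (he : ∀ x : A, x ^ q = 1) (x : G) :
    ∃ f : Fin (q + 1) → G, (∀ i, pairOp q b d i • f i = f i) ∧ ((idx q).map f).prod = x := by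
  obtain ⟨n, hn⟩ := Subgroup.nilpotent_iff_lowerCentralSeries.1 ‹Group.IsNilpotent G›
  suffices h : ∀ k, ∀ x : G, ∃ f : Fin (q + 1) → G, (∀ i, pairOp q b d i • f i = f i) ∧
      ((idx q).map f).prod⁻¹ * x ∈ (⊤ : Subgroup G).lowerCentralSeries k by
    obtain ⟨f, hf, hx⟩ := h n x
    rw [hn, Subgroup.mem_bot, inv_mul_eq_one] at hx
    exact ⟨f, hf, hx⟩
  intro k
  induction k with
  | zero => exact fun x => ⟨fun _ => 1, fun i => smul_one _, Subgroup.mem_top _⟩
  | succ k ih =>
    intro x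
    obtain ⟨f, hf, hx⟩ := ih x
    set N₀ := (⊤ : Subgroup G).lowerCentralSeries (k + 1) with hN₀
    set N := (⊤ : Subgroup G).lowerCentralSeries k
    haveI : N₀.Normal := Subgroup.normal_of_characteristic N₀
    have hc : ∀ m ∈ N, ∀ y : G, ⁅m, y⁆ ∈ N₀ := fun m hm y =>
      Subgroup.commutator_mem_commutator hm (Subgroup.mem_top y)
    obtain ⟨g, hg, hy⟩ := step hcop (b := b) (d := d) hbd he N N₀ (inv_of_characteristic N)
      (inv_of_characteristic N₀) (Subgroup.lowerCentralSeries_antitone _ (Nat.le_succ k)) hc _ hx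
    refine ⟨fun i => f i * g i, fun i => by rw [smul_mul', hf i, (hg i).2], ?_⟩
    set π := QuotientGroup.mk' N₀ with hπ
    have hcen : ∀ i (z : G ⧸ N₀), π (g i) * z = z * π (g i) := fun i z => by
      obtain ⟨y, rfl⟩ := QuotientGroup.mk'_surjective N₀ z
      rw [← commutatorElement_eq_one_iff_mul_comm, ← map_commutatorElement, ← MonoidHom.mem_ker, hπ,
        QuotientGroup.ker_mk']
      exact hc _ (hg i).1 y
    have e := prod_merge π f g hcen (idx q)
    have h2 : π ((idx q).map g).prod = π (((idx q).map f).prod⁻¹ * x) :=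
      (QuotientGroup.eq (s := N₀)).2 hy
    rw [h2, map_mul, map_inv, mul_inv_cancel_left] at e
    exact (QuotientGroup.eq (s := N₀)).1 e

end CfsgLib.FgsC.RankThree
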