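import Cfsg.Agent.Lib.FgsC.RankThree.Words

/-!
# The derived subgroup under a coprime action of rank three
-/

set_option autoImplicit false

universe u v

namespace CfsgLib.FgsC.RankThree

open scoped commutatorElement

variable {A : Type u} [Group A] {G : Type v} [Group G] [MulDistribMulAction A G] [Finite A] [Finite G] {q m : ℕ}

/-- The fixed points of `a`. -/
abbrev fixS (G : Type v) [Group G] [MulDistribMulAction A G] (a : A) : Subgroup G := FixedPoints.subgroup (Subgroup.zpowers a) G

omit [Finite A] [Finite G] in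
theorem mem_fixS {a : A} {x : G} : x ∈ (fixS G a) ↔ a • x = x := by
  refine ⟨fun h => h ⟨a, Subgroup.mem_zpowers a⟩, fun h g => ?_⟩
  obtain ⟨k, hk⟩ := Subgroup.mem_zpowers_iff.1 g.2
  show (g : A) • x = x
  rw [← hk, ← MulAction.mem_stabilizer_iff]
  exact Subgroup.zpow_mem _ (MulAction.mem_stabilizer_iff.2 h) k

/-- The union of the derived subgroups of the fixed point subgroups. -/
def derSet (A : Type u) [Group A] (G : Type v) [Group G] [MulDistribMulAction A G] : Set G :=
  {y | ∃ a : A, a ≠ 1 ∧ y ∈ ⁅(fixS G a), fixS G a⁆}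

/-- The hypothesis on the derived subgroups. -/
def Bounded (A : Type u) [Group A] (G : Type v) [Group G] [MulDistribMulAction A G] (m : ℕ) : Prop :=
  ∀ a : A, a ≠ 1 → Nat.card ↥⁅(fixS G a), fixS G a⁆ ≤ m

variable (h : Data A q G) (hm : Bounded A G m)
include h

theorem nontriv : Nontrivial A := by
  rw [← Finite.one_lt_card_iff_nontrivial, h.card]
  exact Nat.one_lt_pow (by norm_num) h.prime.one_lt

theorem one_mem_derSet : (1 : G) ∈ derSet A G := by
  haveI := nontriv h
  obtain ⟨a, ha⟩ := exists_ne (1 : A)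
  exact ⟨a, ha, one_mem _⟩

include hm

theorem one_le_m : 1 ≤ m := by
  haveI := nontriv h
  obtain ⟨a, ha⟩ := exists_ne (1 : A)
  exact le_trans Nat.card_pos (hm a ha)

theorem card_derSet_le : Nat.card (derSet A G) ≤ q ^ 3 * m := by
  classical
  haveI := Fintype.ofFinite A
  let T := Σ a : {a : A // a ≠ 1}, ↥⁅(fixS G (a : A)), fixS G (a : A)⁆
  let f : T → derSet A G := fun t => ⟨(t.2 : G), t.1, t.1.2, t.2.2⟩
  refine le_trans (Nat.card_le_card_of_surjective f fun y => ?_) ?_
  · obtain ⟨a, ha, hy⟩ := y.2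
    exact ⟨⟨⟨a, ha⟩, ⟨y, hy⟩⟩, rfl⟩
  · rw [Nat.card_sigma, ← h.card, Nat.card_eq_fintype_card]
    refine le_trans (Finset.sum_le_sum fun a _ => hm a a.2) ?_
    rw [Finset.sum_const, smul_eq_mul]
    exact Nat.mul_le_mul_right _ (Finset.card_le_univ _ |>.trans (Fintype.card_subtype_le _))

/-- Conjugating by a plane-fixed element at most multiplies lengths by `2 m`. -/
theorem word_conj {x : G} (hx : x ∈ planeSet A q G) {L : ℕ} {s : G} (hs : Word (derSet A G) L s) :
    Word (derSet A G) (L * (2 * m)) (x * s * x⁻¹) := by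
  obtain ⟨l, hlen, hl, rfl⟩ := hs
  have e := map_list_prod (MulAut.conj x).toMonoidHom l
  simp only [MulEquiv.coe_toMonoidHom, MulAut.conj_apply] at e
  rw [e]
  refine (Word.listProd (l.map fun y => x * y * x⁻¹) fun y hy => ?_).mono subset_rfl
    (Nat.mul_le_mul_right _ (by rw [List.length_map]; exact hlen))
  obtain ⟨t, ht, rfl⟩ := List.mem_map.1 hy
  obtain ⟨a, ha, hta⟩ := hl t ht
  set K := ⁅(fixS G a), fixS G a⁆ with hK
  have hKi : Inv K A := by
    intro b z hz
    have h1 : (fixS G a).map (MulDistribMulAction.toMulEquiv G b).toMonoidHom ≤ fixS G a := by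
      rintro _ ⟨w, hw, rfl⟩
      rw [mem_fixS]
      show a • b • w = b • w
      rw [← mul_smul, h.comm, mul_smul, mem_fixS.1 hw]
    have h2 : K.map (MulDistribMulAction.toMulEquiv G b).toMonoidHom ≤ K := by
      rw [hK, Subgroup.map_commutator]
      exact Subgroup.commutator_mono h1 h1
    exact h2 ⟨z, hz, rfl⟩
  have hgen := h.closure_planeSet K hKi
  obtain ⟨w, hwlen, hw, hwp⟩ := word_of_closure (S := planeSet A q G ∩ K) (m := m) (by rw [hgen]; exact hm a ha)
    (x := t) (by rw [hgen]; exact hta)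
  have e2 := map_list_prod (MulAut.conj x).toMonoidHom w
  simp only [MulEquiv.coe_toMonoidHom, MulAut.conj_apply] at e2
  rw [← hwp, e2]
  refine (Word.listProd (L := 2) (w.map fun y => x * y * x⁻¹) fun y hy => ?_).mono subset_rfl
    (by rw [List.length_map, mul_comm 2]; exact Nat.mul_le_mul_right _ hwlen)
  obtain ⟨z, hz, rfl⟩ := List.mem_map.1 hy
  obtain ⟨hzU, hzK⟩ := hw z hz
  obtain ⟨c, hc, hcx, hcz⟩ := h.meet hx hzU
  have hcom : ⁅x, z⁆ ∈ derSet A G := ⟨c, hc, Subgroup.commutator_mem_commutator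
    (mem_fixS.2 (MulAction.mem_stabilizer_iff.1 hcx)) (mem_fixS.2 (MulAction.mem_stabilizer_iff.1 hcz))⟩
  refine ⟨[⁅x, z⁆, z], le_rfl, fun u hu => ?_, ?_⟩
  · simp only [List.mem_cons, List.not_mem_nil, or_false] at hu
    rcases hu with rfl | rfl
    · exact hcom
    · exact ⟨a, ha, hzK⟩
  · simp [commutatorElement_def]

theorem word_conj_list {s : G} (hs : s ∈ derSet A G) (l : List G) (hl : ∀ x ∈ l, x ∈ planeSet A q G) :
    Word (derSet A G) ((2 * m) ^ l.length) (l.prod * s * l.prod⁻¹) := by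
  induction l with
  | nil => simpa using Word.single hs
  | cons x l ih =>
    have := word_conj h hm (hl x (by simp)) (ih fun y hy => hl y (List.mem_cons_of_mem _ hy))
    rw [List.length_cons, pow_succ, List.prod_cons, mul_inv_rev]
    convert this using 1
    group

/-- The index of the centraliser of an element of the set. -/
theorem index_le {s : G} (hs : s ∈ derSet A G) :
    (Subgroup.centralizer ({s} : Set G)).index ≤
      ((q ^ 3 * m) ^ ((2 * m) ^ (q + 1) ^ 2)) ^ ((q ^ 3 * m) ^ ((2 * m) ^ (q + 1) ^ 2) + 1) := by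
  classical
  set B := (q ^ 3 * m) ^ ((2 * m) ^ (q + 1) ^ 2) with hB
  set T := Subgroup.centralizer ({s} : Set G) with hT
  have hB1 : 1 ≤ B := Nat.one_le_pow _ _ (Nat.mul_pos (pow_pos h.prime.pos 3) (one_le_m h hm))
  have hpp : ∀ p : ℕ, p.Prime → p ^ T.index.factorization p ≤ B := by
    intro p hp
    haveI : Fact p.Prime := ⟨hp⟩
    obtain ⟨P, -, hPp, hPi, hPc⟩ := h.exists_sylow (⊤ : Subgroup G) (fun _ _ _ => Subgroup.mem_top _) p
    haveI := hPp.isNilpotent
    have hr : T.relIndex P ≤ B := by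
      refine le_trans ?_ ((card_word_le (one_mem_derSet h) _).trans
        (Nat.pow_le_pow_left (card_derSet_le h hm) _))
      let g : (P ⧸ T.subgroupOf P) → {x // Word (derSet A G) ((2 * m) ^ (q + 1) ^ 2) x} := fun c =>
        ⟨(c.out : G) * s * (c.out : G)⁻¹, by
          obtain ⟨l, hlen, hl, hp⟩ := h.word_nilpotent P hPi c.out.2
          have := word_conj_list h hm hs l fun y hy => (hl y hy).1
          rw [hp] at this
          exact this.mono subset_rfl (Nat.pow_le_pow_right (by have := one_le_m h hm; omega) hlen)⟩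
      refine Nat.card_le_card_of_injective g fun c d hcd => ?_
      have e : (c.out : G) * s * (c.out : G)⁻¹ = (d.out : G) * s * (d.out : G)⁻¹ :=
        congrArg (fun z : {x // Word (derSet A G) ((2 * m) ^ (q + 1) ^ 2) x} => z.1) hcd
      rw [← QuotientGroup.out_eq' c, ← QuotientGroup.out_eq' d, QuotientGroup.eq, Subgroup.mem_subgroupOf]
      show (c.out : G)⁻¹ * (d.out : G) ∈ T
      refine Subgroup.mem_centralizer_singleton_iff.2 ?_
      calc (c.out : G)⁻¹ * (d.out : G) * s = (c.out : G)⁻¹ * ((d.out : G) * s * (d.out : G)⁻¹) * d.out := by group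
        _ = (c.out : G)⁻¹ * ((c.out : G) * s * (c.out : G)⁻¹) * d.out := by rw [e]
        _ = _ := by group
    refine le_trans ?_ hr
    have hG := T.card_mul_index
    have hT0 : Nat.card T ≠ 0 := Nat.card_pos.ne'
    have hi0 : T.index ≠ 0 := Subgroup.index_ne_zero_of_finite
    have hsplit : (Nat.card G).factorization p = (Nat.card T).factorization p + T.index.factorization p := by
      rw [← hG, Nat.factorization_mul hT0 hi0, Finsupp.add_apply]
    have h1 : Nat.card ↥(T ⊓ P) * T.relIndex P = Nat.card P := by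
      rw [← Subgroup.inf_relIndex_right, ← Subgroup.relIndex_bot_left (T ⊓ P),
        Subgroup.relIndex_mul_relIndex _ _ _ bot_le inf_le_right, Subgroup.relIndex_bot_left]
    rw [Subgroup.card_top] at hPc
    have h2 : Nat.card ↥(T ⊓ P) ≤ p ^ (Nat.card T).factorization p := by
      obtain ⟨k, hk⟩ := IsPGroup.iff_card.1 (hPp.to_le (inf_le_right : T ⊓ P ≤ P))
      rw [hk]
      exact Nat.pow_le_pow_right hp.pos ((hp.pow_dvd_iff_le_factorization hT0).1
        (hk ▸ Subgroup.card_dvd_of_le inf_le_left))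
    have h3 : p ^ ((Nat.card T).factorization p + T.index.factorization p) ≤ Nat.card P :=
      hsplit ▸ Nat.le_of_dvd Nat.card_pos hPc
    rw [pow_add, ← h1] at h3
    exact Nat.le_of_mul_le_mul_left (h3.trans (Nat.mul_le_mul_right _ h2)) (pow_pos hp.pos _)
  conv_lhs => rw [← Nat.prod_factorization_pow_eq_self (Subgroup.index_ne_zero_of_finite (H := T))]
  refine le_trans (Finset.prod_le_pow_card _ _ B fun p hp => ?_) (Nat.pow_le_pow_right hB1 ?_)
  · exact hpp p (Nat.prime_of_mem_primeFactors hp)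
  · rw [Nat.support_factorization]
    refine (Finset.card_le_card fun p hp => ?_).trans (Finset.card_range (B + 1)).le
    have hprime := Nat.prime_of_mem_primeFactors hp
    have h1 : 1 ≤ T.index.factorization p :=
      hprime.factorization_pos_of_dvd Subgroup.index_ne_zero_of_finite (Nat.dvd_of_mem_primeFactors hp)
    have := (Nat.le_self_pow (by omega) p).trans (hpp p hprime)
    rw [Finset.mem_range]
    omega

/-- The bound. -/
theorem card_commutator_le : Nat.card ↥(commutator G) ≤
    ((q ^ 3 * m) * ((q ^ 3 * m) ^ ((2 * m) ^ (q + 1) ^ 2)) ^ ((q ^ 3 * m) ^ ((2 * m) ^ (q + 1) ^ 2) + 1)) ^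
      ((q ^ 3 * m) * ((q ^ 3 * m) ^ ((2 * m) ^ (q + 1) ^ 2)) ^ ((q ^ 3 * m) ^ ((2 * m) ^ (q + 1) ^ 2) + 1) * m) := by
  classical
  set I := ((q ^ 3 * m) ^ ((2 * m) ^ (q + 1) ^ 2)) ^ ((q ^ 3 * m) ^ ((2 * m) ^ (q + 1) ^ 2) + 1) with hI
  let E : Set G := {y | ∃ s ∈ derSet A G, ∃ g : G, g * s * g⁻¹ = y}
  have hE : ∀ g : G, ∀ y ∈ E, g * y * g⁻¹ ∈ E := by
    rintro g _ ⟨s, hs, k, rfl⟩
    exact ⟨s, hs, g * k, by group⟩
  have hsubE : derSet A G ⊆ E := fun s hs => ⟨s, hs, 1, by group⟩
  have hord : ∀ y ∈ E, orderOf y ≤ m := by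
    rintro _ ⟨s, ⟨a, ha, hs⟩, g, rfl⟩
    rw [← MulAut.conj_apply, MulEquiv.orderOf_eq]
    exact (Nat.le_of_dvd Nat.card_pos (Subgroup.orderOf_dvd_natCard _ hs)).trans (hm a ha)
  have hcardE : Nat.card E ≤ q ^ 3 * m * I := by
    haveI := Fintype.ofFinite (derSet A G)
    let T := Σ s : derSet A G, G ⧸ Subgroup.centralizer ({(s : G)} : Set G)
    let f : T → E := fun t => ⟨t.2.out * (t.1 : G) * t.2.out⁻¹, t.1, t.1.2, t.2.out, rfl⟩
    refine le_trans (Nat.card_le_card_of_surjective f fun y => ?_) ?_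
    · obtain ⟨s, hs, g, hg⟩ := y.2
      refine ⟨⟨⟨s, hs⟩, QuotientGroup.mk g⟩, Subtype.ext ?_⟩
      obtain ⟨c, hc⟩ := QuotientGroup.mk_out_eq_mul (Subgroup.centralizer ({s} : Set G)) g
      show (Quotient.out (QuotientGroup.mk g : G ⧸ Subgroup.centralizer ({s} : Set G))) * s * _⁻¹ = (y : G)
      rw [hc, ← hg]
      have := Subgroup.mem_centralizer_singleton_iff.1 c.2
      calc g * (c : G) * s * (g * (c : G))⁻¹ = g * ((c : G) * s) * (c : G)⁻¹ * g⁻¹ := by group
        _ = g * (s * (c : G)) * (c : G)⁻¹ * g⁻¹ := by rw [this]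
        _ = _ := by group
    · rw [Nat.card_sigma]
      refine le_trans (Finset.sum_le_sum fun s _ => ?_) ?_ (b := ∑ _s : derSet A G, I)
      · rw [← Subgroup.index_eq_card]; exact index_le h hm s.2
      · rw [Finset.sum_const, smul_eq_mul, Finset.card_univ, ← Nat.card_eq_fintype_card]
        exact Nat.mul_le_mul_right _ (card_derSet_le h hm)
  set M := Subgroup.closure (derSet A G) with hM
  have hU : Subgroup.closure (planeSet A q G) = ⊤ := by
    have := h.closure_planeSet (⊤ : Subgroup G) fun _ _ _ => Subgroup.mem_top _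
    rwa [Subgroup.coe_top, Set.inter_univ] at this
  have hnorm : Subgroup.normalizer (M : Set G) = ⊤ := by
    rw [eq_top_iff, ← hU, Subgroup.closure_le]
    intro x hx
    have hle : M.map (MulAut.conj x).toMonoidHom ≤ M := by
      rw [Subgroup.map_le_iff_le_comap, hM, Subgroup.closure_le]
      intro s hs
      obtain ⟨l, -, hl, hp⟩ := word_conj h hm hx (Word.single hs)
      show x * s * x⁻¹ ∈ Subgroup.closure (derSet A G)
      rw [← hp]
      exact Subgroup.list_prod_mem _ fun y hy => Subgroup.subset_closure (hl y hy)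
    have heq : M.map (MulAut.conj x).toMonoidHom = M := Subgroup.eq_of_le_of_card_ge hle
      (Subgroup.card_map_of_injective (MulAut.conj x).injective).ge
    rw [SetLike.mem_coe, Subgroup.mem_normalizer_iff]
    intro z
    refine ⟨fun hz => hle ⟨z, hz, rfl⟩, fun hz => ?_⟩
    rw [← heq] at hz
    obtain ⟨w, hw, e⟩ := hz
    have : w = z := (MulAut.conj x).injective (e.trans (MulAut.conj_apply x z).symm)
    exact this ▸ hw
  haveI : M.Normal := Subgroup.normalizer_eq_top_iff.1 hnorm
  have hcomm : commutator G ≤ M := by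
    set π := QuotientGroup.mk' M
    set S := π '' planeSet A q G
    have hS : S ⊆ (Subgroup.centralizer S : Set (G ⧸ M)) := by
      rintro _ ⟨x, hx, rfl⟩
      rw [SetLike.mem_coe, Subgroup.mem_centralizer_iff]
      rintro _ ⟨z, hz, rfl⟩
      obtain ⟨c, hc, hcz, hcx⟩ := h.meet hz hx
      rw [← commutatorElement_eq_one_iff_mul_comm, ← map_commutatorElement, QuotientGroup.mk'_apply,
        QuotientGroup.eq_one_iff]
      exact Subgroup.subset_closure ⟨c, hc, Subgroup.commutator_mem_commutator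
        (mem_fixS.2 (MulAction.mem_stabilizer_iff.1 hcz)) (mem_fixS.2 (MulAction.mem_stabilizer_iff.1 hcx))⟩
    have htop : Subgroup.closure S = ⊤ := by
      rw [← MonoidHom.map_closure, hU, Subgroup.map_top_of_surjective _ (QuotientGroup.mk'_surjective M)]
    have h1 : (⊤ : Subgroup (G ⧸ M)) ≤ Subgroup.centralizer S := htop ▸ (Subgroup.closure_le _).2 hS
    have h2 : (⊤ : Subgroup (G ⧸ M)) ≤ Subgroup.centralizer ((⊤ : Subgroup (G ⧸ M)) : Set (G ⧸ M)) := by
      conv_rhs => rw [← htop, Subgroup.centralizer_closure]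
      exact h1
    rw [commutator_def, Subgroup.commutator_le]
    intro x _ y _
    rw [← QuotientGroup.eq_one_iff, ← QuotientGroup.mk'_apply, map_commutatorElement,
      commutatorElement_eq_one_iff_mul_comm]
    exact Subgroup.mem_centralizer_iff.1 (h2 (Subgroup.mem_top (π y))) (π x) (Subgroup.mem_top _)
  refine le_trans (Nat.le_of_dvd Nat.card_pos
    (Subgroup.card_dvd_of_le (hcomm.trans (Subgroup.closure_mono hsubE)))) ?_
  refine le_trans (card_closure_le hE (hsubE (one_mem_derSet h)) hord) ?_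
  refine le_trans (Nat.pow_le_pow_left hcardE _) (Nat.pow_le_pow_right ?_ (Nat.mul_le_mul_right _ hcardE))
  exact Nat.mul_pos (Nat.mul_pos (pow_pos h.prime.pos 3) (one_le_m h hm))
    (pow_pos (pow_pos (Nat.mul_pos (pow_pos h.prime.pos 3) (one_le_m h hm)) _) _)

end CfsgLib.FgsC.RankThree
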