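import Cfsg.Agent.Lib.FgsC.RankThree.Decomp

/-!
# Elements fixed by a plane of a coprime elementary abelian group of rank three
-/

set_option autoImplicit false

universe u v

namespace CfsgLib.FgsC.RankThree

open scoped Pointwise commutatorElement

variable {A : Type u} [Group A] {G : Type v} [Group G] [MulDistribMulAction A G]

/-- Elements fixed by a plane. -/
def planeSet (A : Type u) [Group A] (q : ℕ) (G : Type v) [Group G] [MulDistribMulAction A G] : Set G :=
  {x | q ^ 2 ≤ Nat.card (MulAction.stabilizer A x)}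

/-- The data: an elementary abelian group of order `q ^ 3` acting coprimely. -/
structure Data (A : Type u) [Group A] (q : ℕ) (G : Type v) [Group G] : Prop where
  prime : q.Prime
  card : Nat.card A = q ^ 3
  comm : ∀ a b : A, a * b = b * a
  exp : ∀ a : A, a ^ q = 1
  cop : ¬ q ∣ Nat.card G

/-- A product of a list in a set. -/
def Word (S : Set G) (L : ℕ) (x : G) : Prop :=
  ∃ l : List G, l.length ≤ L ∧ (∀ y ∈ l, y ∈ S) ∧ l.prod = x

theorem Word.mono {S S' : Set G} {L L' : ℕ} {x : G} (h : Word S L x) (hS : S ⊆ S') (hL : L ≤ L') : Word S' L' x := by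
  obtain ⟨l, h1, h2, h3⟩ := h
  exact ⟨l, h1.trans hL, fun y hy => hS (h2 y hy), h3⟩

theorem Word.single {S : Set G} {x : G} (h : x ∈ S) : Word S 1 x :=
  ⟨[x], le_rfl, by simpa using h, by simp⟩

theorem Word.mul {S : Set G} {L L' : ℕ} {x y : G} (h : Word S L x) (h' : Word S L' y) : Word S (L + L') (x * y) := by
  obtain ⟨l, h1, h2, rfl⟩ := h
  obtain ⟨l', h1', h2', rfl⟩ := h'
  refine ⟨l ++ l', by rw [List.length_append]; omega, fun z hz => ?_, List.prod_append⟩
  rcases List.mem_append.1 hz with hz | hz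
  · exact h2 z hz
  · exact h2' z hz

theorem Word.listProd {S : Set G} {L : ℕ} (l : List G) (h : ∀ y ∈ l, Word S L y) : Word S (l.length * L) l.prod := by
  induction l with
  | nil => exact ⟨[], Nat.zero_le _, by simp, rfl⟩
  | cons a l ih =>
    rw [List.prod_cons]
    refine ((h a (by simp)).mul (ih fun y hy => h y (List.mem_cons_of_mem a hy))).mono subset_rfl ?_
    rw [List.length_cons, add_mul, one_mul, add_comm]

variable [Finite A] {q : ℕ}

theorem Data.orderOf_eq (h : Data A q G) {a : A} (ha : a ≠ 1) : orderOf a = q :=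
  @orderOf_eq_prime _ _ _ _ ⟨h.prime⟩ (h.exp a) ha

theorem Data.card_zpowers (h : Data A q G) {a : A} (ha : a ≠ 1) : Nat.card (Subgroup.zpowers a) = q := by
  rw [Nat.card_zpowers, h.orderOf_eq ha]

/-- The order of a join is at most the product of the orders. -/
theorem Data.card_sup_le (h : Data A q G) (H K : Subgroup A) :
    Nat.card ↥(H ⊔ K) ≤ Nat.card H * Nat.card K := by
  let φ : H × K →* A := MonoidHom.noncommCoprod H.subtype K.subtype fun x y => h.comm x y
  have hle : H ⊔ K ≤ φ.range := sup_le (fun x hx => ⟨(⟨x, hx⟩, 1), mul_one x⟩) fun x hx => ⟨(1, ⟨x, hx⟩), one_mul x⟩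
  calc Nat.card ↥(H ⊔ K) ≤ Nat.card φ.range := Nat.le_of_dvd Nat.card_pos (Subgroup.card_dvd_of_le hle)
    _ ≤ Nat.card (H × K) := Nat.card_le_card_of_surjective φ.rangeRestrict φ.rangeRestrict_surjective
    _ = _ := Nat.card_prod H K

/-- A subgroup containing two independent elements is large. -/
theorem Data.sq_le (h : Data A q G) {H : Subgroup A} {a d : A} (ha : a ≠ 1) (haH : a ∈ H) (hdH : d ∈ H)
    (hd : d ∉ Subgroup.zpowers a) : q ^ 2 ≤ Nat.card H := by
  obtain ⟨i, -, hi⟩ := (Nat.dvd_prime_pow h.prime).1 (h.card ▸ Subgroup.card_subgroup_dvd_card H)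
  have hlt : q < Nat.card H := by
    have hle : Subgroup.zpowers a ≤ H := Subgroup.zpowers_le.2 haH
    have h1 := Nat.le_of_dvd Nat.card_pos (Subgroup.card_dvd_of_le hle)
    rw [h.card_zpowers ha] at h1
    refine lt_of_le_of_ne h1 fun e => hd ?_
    rw [Subgroup.eq_of_le_of_card_ge hle (by rw [h.card_zpowers ha, ← e])]
    exact hdH
  rw [hi] at hlt ⊢
  refine Nat.pow_le_pow_right h.prime.pos ?_
  by_contra hc
  have := Nat.pow_le_pow_right h.prime.pos (show i ≤ 1 by omega)
  rw [pow_one] at this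
  omega

/-- Two planes meet. -/
theorem Data.meet (h : Data A q G) {H K : Subgroup A} (hH : q ^ 2 ≤ Nat.card H) (hK : q ^ 2 ≤ Nat.card K) :
    ∃ e : A, e ≠ 1 ∧ e ∈ H ∧ e ∈ K := by
  by_contra hc
  push Not at hc
  let φ : H × K →* A := MonoidHom.noncommCoprod H.subtype K.subtype fun x y => h.comm x y
  have hinj : Function.Injective φ := (injective_iff_map_eq_one φ).2 fun ⟨x, y⟩ hxy => by
    have hx : (x : A) = (y : A)⁻¹ := eq_inv_of_mul_eq_one_left hxy
    have h1 : (x : A) = 1 := by
      by_contra h1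
      exact hc x h1 x.2 (hx ▸ K.inv_mem y.2)
    rw [h1, eq_comm, inv_eq_one] at hx
    exact Prod.ext (Subtype.ext h1) (Subtype.ext hx)
  have h1 := Nat.card_le_card_of_injective φ hinj
  rw [Nat.card_prod, h.card] at h1
  have h2 := Nat.mul_le_mul hH hK
  rw [← pow_add] at h2
  have := (Nat.pow_le_pow_iff_right h.prime.one_lt).1 (h2.trans h1)
  omega

/-- A pair whose lines avoid a given one. -/
theorem Data.exists_pair (h : Data A q G) (e : A) :
    ∃ u w : A, u ≠ 1 ∧ w ∉ Subgroup.zpowers u ∧ ∀ i, pairOp q u w i ∉ Subgroup.zpowers e := by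
  have hq := h.prime.one_lt
  have hcE : Nat.card (Subgroup.zpowers e) ≤ q := by
    rw [Nat.card_zpowers]
    exact Nat.le_of_dvd h.prime.pos (orderOf_dvd_of_pow_eq_one (h.exp e))
  obtain ⟨u, hu⟩ : ∃ u : A, u ∉ Subgroup.zpowers e := by
    by_contra hc
    push Not at hc
    rw [(Subgroup.eq_top_iff' _).2 hc, Subgroup.card_top, h.card] at hcE
    have := Nat.pow_lt_pow_right hq (show 1 < 3 by norm_num)
    rw [pow_one] at this
    omega
  have hu1 : u ≠ 1 := fun e1 => hu (e1 ▸ one_mem _)
  obtain ⟨w, hw⟩ : ∃ w : A, w ∉ Subgroup.zpowers e ⊔ Subgroup.zpowers u := by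
    by_contra hc
    push Not at hc
    have := h.card_sup_le (Subgroup.zpowers e) (Subgroup.zpowers u)
    rw [(Subgroup.eq_top_iff' _).2 hc, Subgroup.card_top, h.card, h.card_zpowers hu1] at this
    have h2 := this.trans (Nat.mul_le_mul_right q hcE)
    have := Nat.pow_lt_pow_right hq (show 2 < 3 by norm_num)
    rw [← pow_two] at h2
    omega
  refine ⟨u, w, hu1, fun h' => hw (Subgroup.mem_sup_right h'), fun i hi => ?_⟩
  induction i using Fin.lastCases with
  | last =>
    rw [pairOp, Fin.lastCases_last] at hi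
    exact hw (Subgroup.mem_sup_left hi)
  | cast i =>
    rw [pairOp, Fin.lastCases_castSucc] at hi
    by_cases h0 : (i : ℕ) = 0
    · rw [h0, pow_zero, mul_one] at hi
      exact hu hi
    · have hwi : w ^ (i : ℕ) ∈ Subgroup.zpowers e ⊔ Subgroup.zpowers u := by
        have := Subgroup.mul_mem _ (Subgroup.inv_mem _ (Subgroup.mem_sup_right
          (Subgroup.mem_zpowers u) : u ∈ Subgroup.zpowers e ⊔ Subgroup.zpowers u))
          (Subgroup.mem_sup_left hi : u * w ^ (i : ℕ) ∈ Subgroup.zpowers e ⊔ Subgroup.zpowers u)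
        rwa [inv_mul_cancel_left] at this
      have hcop : (i : ℕ).Coprime (orderOf w) := by
        rcases (Nat.dvd_prime h.prime).1 (orderOf_dvd_of_pow_eq_one (h.exp w)) with ho | ho
        · rw [ho]; exact Nat.coprime_one_right _
        · rw [ho]
          refine ((h.prime.coprime_iff_not_dvd).2 fun hd => ?_).symm
          have := Nat.le_of_dvd (Nat.pos_of_ne_zero h0) hd
          have := i.2
          omega
      obtain ⟨m, hm⟩ := exists_pow_eq_self_of_coprime hcop
      exact hw (hm ▸ Subgroup.pow_mem _ hwi m)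

variable [Finite G]

/-- In an invariant nilpotent subgroup every element is a short word in plane-fixed elements. -/
theorem Data.word_nilpotent (h : Data A q G) (P : Subgroup G) (hP : Inv P A) [Group.IsNilpotent P] {x : G}
    (hx : x ∈ P) : Word (planeSet A q G ∩ P) ((q + 1) ^ 2) x := by
  haveI : Fact q.Prime := ⟨h.prime⟩
  -- one level of decomposition in an invariant subgroup
  have lev : ∀ (K : Subgroup G), Inv K A → K ≤ P → ∀ y ∈ K, ∀ u w : A,
      ∃ f : Fin (q + 1) → G, (∀ i, f i ∈ K ∧ pairOp q u w i • f i = f i) ∧ ((idx q).map f).prod = y := by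
    intro K hK hKP y hy u w
    letI : MulDistribMulAction A K :=
      { smul := fun a z => ⟨a • (z : G), hK a z z.2⟩
        one_smul := fun z => Subtype.ext (one_smul A (z : G))
        mul_smul := fun a b z => Subtype.ext (mul_smul a b (z : G))
        smul_mul := fun a z z' => Subtype.ext (smul_mul' a (z : G) (z' : G))
        smul_one := fun a => Subtype.ext (smul_one a) }
    haveI : Group.IsNilpotent K :=
      Group.nilpotent_of_mulEquiv (Subgroup.subgroupOfEquivOfLe hKP)
    obtain ⟨f, hf, hprod⟩ := exists_decomp (G := K)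
      (fun hd => h.cop (hd.trans (Subgroup.card_subgroup_dvd_card K))) h.comm h.exp (b := u) (d := w) ⟨y, hy⟩
    refine ⟨fun i => (f i : G), fun i => ⟨(f i).2, congrArg Subtype.val (hf i)⟩, ?_⟩
    have := congrArg K.subtype hprod
    rw [map_list_prod, List.map_map] at this
    exact this
  obtain ⟨u, w, hu, hw, -⟩ := h.exists_pair 1
  obtain ⟨f, hf, rfl⟩ := lev P hP le_rfl x hx u w
  rw [show (q + 1) ^ 2 = ((idx q).map f).length * (q + 1) by
    rw [List.length_map, idx, List.length_finRange, pow_two]]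
  refine Word.listProd _ fun y hy => ?_
  obtain ⟨i, -, rfl⟩ := List.mem_map.1 hy
  set e := pairOp q u w i with he
  have he1 : e ≠ 1 := by
    rw [he]
    induction i using Fin.lastCases with
    | last => rw [pairOp, Fin.lastCases_last]; exact fun e1 => hw (e1 ▸ one_mem _)
    | cast i =>
      rw [pairOp, Fin.lastCases_castSucc]
      intro e1
      by_cases h0 : (i : ℕ) = 0
      · rw [h0, pow_zero, mul_one] at e1; exact hu e1
      · have hwi : w ^ (i : ℕ) ∈ Subgroup.zpowers u := by
          rw [eq_inv_of_mul_eq_one_right e1]; exact inv_mem (Subgroup.mem_zpowers u)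
        have hcop : (i : ℕ).Coprime (orderOf w) := by
          rw [h.orderOf_eq (a := w) (fun e2 => hw (by rw [e2]; exact one_mem _))]
          refine ((h.prime.coprime_iff_not_dvd).2 fun hd => ?_).symm
          have := Nat.le_of_dvd (Nat.pos_of_ne_zero h0) hd
          have := i.2
          omega
        obtain ⟨m, hm⟩ := exists_pow_eq_self_of_coprime hcop
        exact hw (hm ▸ Subgroup.pow_mem _ hwi m)
  -- second level inside the fixed points of `e`
  let K : Subgroup G := P ⊓ FixedPoints.subgroup (Subgroup.zpowers e) G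
  have hK : Inv K A := fun a z hz => ⟨hP a z hz.1, fun g => by
    show (g : A) • a • z = a • z
    rw [← mul_smul, h.comm, mul_smul]
    exact congrArg (a • ·) (hz.2 g)⟩
  have hfix : f i ∈ K := ⟨(hf i).1, fun g => by
    obtain ⟨k, hk⟩ := Subgroup.mem_zpowers_iff.1 g.2
    show (g : A) • f i = f i
    rw [← hk, ← MulAction.mem_stabilizer_iff]
    exact Subgroup.zpow_mem _ (MulAction.mem_stabilizer_iff.2 (hf i).2) k⟩
  obtain ⟨u', w', -, -, havoid⟩ := h.exists_pair e
  obtain ⟨g, hg, hgp⟩ := lev K hK inf_le_left (f i) hfix u' w'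
  refine ⟨(idx q).map g, by rw [List.length_map, idx, List.length_finRange], fun z hz => ?_, hgp⟩
  obtain ⟨j, -, rfl⟩ := List.mem_map.1 hz
  refine ⟨h.sq_le he1 ?_ (MulAction.mem_stabilizer_iff.2 (hg j).2) (havoid j), (hg j).1.1⟩
  exact MulAction.mem_stabilizer_iff.2 ((hg j).1.2 ⟨e, Subgroup.mem_zpowers e⟩)

/-- An invariant subgroup has an invariant Sylow subgroup. -/
theorem Data.exists_sylow (h : Data A q G) (K : Subgroup G) (hK : Inv K A) (p : ℕ) [Fact p.Prime] :
    ∃ P : Subgroup G, P ≤ K ∧ IsPGroup p P ∧ Inv P A ∧ p ^ (Nat.card K).factorization p ∣ Nat.card P := by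
  haveI : Fact q.Prime := ⟨h.prime⟩
  letI : MulDistribMulAction A K :=
    { smul := fun a z => ⟨a • (z : G), hK a z z.2⟩
      one_smul := fun z => Subtype.ext (one_smul A (z : G))
      mul_smul := fun a b z => Subtype.ext (mul_smul a b (z : G))
      smul_mul := fun a z z' => Subtype.ext (smul_mul' a (z : G) (z' : G))
      smul_one := fun a => Subtype.ext (smul_one a) }
  have hA : IsPGroup q A := IsPGroup.of_card h.card
  obtain ⟨P0⟩ : Nonempty (Sylow p K) := inferInstance
  have hdiv : ¬ q ∣ Nat.card (Sylow p K) := fun hd => h.cop (hd.trans ((Sylow.card_dvd_index P0).trans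
    ((Subgroup.index_dvd_card _).trans (Subgroup.card_subgroup_dvd_card K))))
  obtain ⟨P, hP⟩ := hA.nonempty_fixed_point_of_prime_not_dvd_card (Sylow p K) hdiv
  refine ⟨(P : Subgroup K).map K.subtype, Subgroup.map_subtype_le _, P.2.map _, ?_, ?_⟩
  · rintro a _ ⟨z, hz, rfl⟩
    refine ⟨a • z, ?_, rfl⟩
    have := hP a
    rw [← this]
    exact Subgroup.smul_mem_pointwise_smul z a _ hz
  · rw [Subgroup.card_subtype, P.card_eq_multiplicity]

/-- Plane-fixed elements generate every invariant subgroup. -/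
theorem Data.closure_planeSet (h : Data A q G) (K : Subgroup G) (hK : Inv K A) :
    Subgroup.closure (planeSet A q G ∩ K) = K := by
  have hle : Subgroup.closure (planeSet A q G ∩ K) ≤ K :=
    (Subgroup.closure_le K).2 Set.inter_subset_right
  refine Subgroup.eq_of_le_of_card_ge hle (Nat.le_of_dvd Nat.card_pos ?_)
  rw [Nat.dvd_iff_prime_pow_dvd_dvd]
  intro p k hp hpk
  haveI : Fact p.Prime := ⟨hp⟩
  obtain ⟨P, hPK, hPp, hPi, hPc⟩ := h.exists_sylow K hK p
  haveI := hPp.isNilpotent
  have hPle : P ≤ Subgroup.closure (planeSet A q G ∩ K) := fun x hx => by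
    obtain ⟨l, -, hl, rfl⟩ := h.word_nilpotent P hPi hx
    exact Subgroup.list_prod_mem _ fun y hy => Subgroup.subset_closure ⟨(hl y hy).1, hPK (hl y hy).2⟩
  refine dvd_trans ?_ (Subgroup.card_dvd_of_le hPle)
  exact dvd_trans (Nat.pow_dvd_pow p ((hp.pow_dvd_iff_le_factorization (Nat.pos_iff_ne_zero.1 Nat.card_pos)).1 hpk)) hPc

end CfsgLib.FgsC.RankThree
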