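import Cfsg.Agent.Lib.FgsC.RankThree.Planes

/-!
# Words of bounded length in a finite group
-/

set_option autoImplicit false

universe v

namespace CfsgLib.FgsC.RankThree

variable {G : Type v} [Group G] [Finite G]

/-- Generators reach every element within the order of the generated group. -/
theorem word_of_closure {S : Set G} {m : ℕ} (hm : Nat.card (Subgroup.closure S) ≤ m) {x : G}
    (hx : x ∈ Subgroup.closure S) : Word S m x := by
  classical
  have hex : ∃ k, ∃ l : List G, l.length = k ∧ (∀ y ∈ l, y ∈ S) ∧ l.prod = x := by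
    have hx' : x ∈ Submonoid.closure S := by
      rw [← Subgroup.closure_toSubmonoid_of_finite]; exact hx
    obtain ⟨l, hl, hp⟩ := Submonoid.exists_list_of_mem_closure hx'
    exact ⟨_, l, rfl, hl, hp⟩
  obtain ⟨l, hlen, hl, hp⟩ := Nat.find_spec hex
  refine ⟨l, ?_, hl, hp⟩
  by_contra hlt
  let f : Fin (l.length + 1) → Subgroup.closure S := fun i =>
    ⟨(l.take i).prod, Subgroup.list_prod_mem _ fun y hy => Subgroup.subset_closure (hl y (List.mem_of_mem_take hy))⟩
  obtain ⟨i, j, hij, hne⟩ : ∃ i j, f i = f j ∧ i ≠ j := Function.not_injective_iff.1 fun hinj => by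
    have := Nat.card_le_card_of_injective f hinj
    rw [Nat.card_fin] at this
    omega
  wlog hlt' : i < j generalizing i j
  · exact this j i hij.symm hne.symm (lt_of_le_of_ne (not_lt.1 hlt') hne.symm)
  have hshort : ∃ l' : List G, l'.length = (l.take i ++ l.drop j).length ∧ (∀ y ∈ l', y ∈ S) ∧ l'.prod = x := by
    refine ⟨_, rfl, fun y hy => ?_, ?_⟩
    · rcases List.mem_append.1 hy with hy | hy
      · exact hl y (List.mem_of_mem_take hy)
      · exact hl y (List.mem_of_mem_drop hy)
    · rw [List.prod_append, show (l.take i).prod = (l.take j).prod from congrArg Subtype.val hij,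
        List.prod_take_mul_prod_drop, hp]
  have h2 := Nat.find_min' hex hshort
  rw [List.length_append, List.length_take, List.length_drop, ← hlen] at h2
  have := i.2
  have := j.2
  have : (i : ℕ) < j := hlt'
  omega

/-- The number of words. -/
theorem card_word_le {S : Set G} (h1 : (1 : G) ∈ S) (L : ℕ) :
    Nat.card {x // Word S L x} ≤ Nat.card S ^ L := by
  refine le_trans ?_ (le_of_eq (Nat.card_fun.trans (by rw [Nat.card_fin])) : Nat.card (Fin L → S) ≤ _)
  refine Nat.card_le_card_of_surjective
    (fun f : Fin L → S => (⟨(List.ofFn fun i => (f i : G)).prod, _, (List.length_ofFn).le,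
      (by intro y hy; obtain ⟨i, rfl⟩ := List.mem_ofFn.1 hy; exact (f i).2), rfl⟩ : {x // Word S L x})) ?_
  rintro ⟨x, l, hlen, hl, rfl⟩
  set l' := l ++ List.replicate (L - l.length) 1 with hl'
  have hlen' : l'.length = L := by rw [hl', List.length_append, List.length_replicate]; omega
  have hmem : ∀ y ∈ l', y ∈ S := fun y hy => by
    rcases List.mem_append.1 hy with hy | hy
    · exact hl y hy
    · rw [(List.mem_replicate.1 hy).2]; exact h1
  refine ⟨fun i => ⟨l'[(i : ℕ)]'(by omega), hmem _ (List.getElem_mem _)⟩, Subtype.ext ?_⟩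
  show (List.ofFn fun i : Fin L => l'[(i : ℕ)]'(by omega)).prod = l.prod
  have e : (List.ofFn fun i : Fin L => l'[(i : ℕ)]'(by omega)) = l' :=
    List.ext_getElem (by rw [List.length_ofFn, hlen']) fun n h₁ h₂ => by rw [List.getElem_ofFn]
  rw [e, hl', List.prod_append, List.prod_replicate, one_pow, mul_one]

/-- Collecting copies of an element to the front. -/
theorem collect [DecidableEq G] {E : Set G} (hE : ∀ g : G, ∀ y ∈ E, g * y * g⁻¹ ∈ E) (y : G) :
    ∀ (k : ℕ) (l : List G), (∀ z ∈ l, z ∈ E) → k ≤ l.count y →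
      ∃ r : List G, r.length + k = l.length ∧ (∀ z ∈ r, z ∈ E) ∧ y ^ k * r.prod = l.prod ∧
        l.count y ≤ r.count y + k := by
  intro k
  induction k with
  | zero => exact fun l hl _ => ⟨l, rfl, hl, by rw [pow_zero, one_mul], le_rfl⟩
  | succ k ih =>
    intro l hl hk
    obtain ⟨r, hlen, hr, hprod, hcount⟩ := ih l hl (by omega)
    obtain ⟨u, w, rfl, hu⟩ := List.eq_append_cons_of_mem (List.count_pos_iff.1 (show 0 < r.count y by omega))
    refine ⟨u.map (fun z => y⁻¹ * z * y) ++ w, ?_, fun z hz => ?_, ?_, ?_⟩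
    · simp only [List.length_append, List.length_cons, List.length_map] at hlen ⊢
      omega
    · rcases List.mem_append.1 hz with hz | hz
      · obtain ⟨z', hz', rfl⟩ := List.mem_map.1 hz
        simpa using hE y⁻¹ z' (hr z' (List.mem_append_left _ hz'))
      · exact hr z (List.mem_append_right _ (List.mem_cons_of_mem _ hz))
    · rw [← hprod]
      have e : (u.map fun z => y⁻¹ * z * y).prod = y⁻¹ * u.prod * y := by
        clear hl hlen hr hprod hcount hu
        induction u with
        | nil => simp
        | cons a u ihu => rw [List.map_cons, List.prod_cons, List.prod_cons, ihu]; group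
      simp only [List.prod_append, List.prod_cons]
      rw [e, pow_succ]
      group
    · rw [List.count_append, List.count_cons_self, List.count_eq_zero_of_not_mem hu] at hcount
      rw [List.count_append]
      omega

/-- A group generated by a normal set of elements of small order is small. -/
theorem card_closure_le {E : Set G} (hE : ∀ g : G, ∀ y ∈ E, g * y * g⁻¹ ∈ E) (h1 : (1 : G) ∈ E) {m : ℕ}
    (hord : ∀ y ∈ E, orderOf y ≤ m) :
    Nat.card (Subgroup.closure E) ≤ Nat.card E ^ (Nat.card E * m) := by
  classical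
  refine le_trans ?_ (card_word_le h1 _)
  refine Nat.card_le_card_of_injective (fun x => (⟨x.1, ?_⟩ : {x // Word E (Nat.card E * m) x}))
    fun a b h => Subtype.ext (congrArg (fun z : {x // Word E (Nat.card E * m) x} => z.1) h)
  have hex : ∃ k, ∃ l : List G, l.length = k ∧ (∀ y ∈ l, y ∈ E) ∧ l.prod = (x : G) := by
    have hx' : (x : G) ∈ Submonoid.closure E := by
      rw [← Subgroup.closure_toSubmonoid_of_finite]; exact x.2
    obtain ⟨l, hl, hp⟩ := Submonoid.exists_list_of_mem_closure hx'
    exact ⟨_, l, rfl, hl, hp⟩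
  obtain ⟨l, hlen, hl, hp⟩ := Nat.find_spec hex
  refine ⟨l, ?_, hl, hp⟩
  by_contra hlt
  obtain ⟨y, hy, hcnt⟩ : ∃ y ∈ l, m < l.count y := by
    by_contra hall
    push Not at hall
    have h2 : l.toFinset.card ≤ Nat.card E := by
      rw [← Nat.card_eq_finsetCard]
      exact Nat.card_le_card_of_injective (fun z => (⟨z.1, hl z.1 (List.mem_toFinset.1 z.2)⟩ : E))
        fun a b h => Subtype.ext (congrArg (fun z : E => (z : G)) h)
    have h3 : l.length ≤ l.toFinset.card * m := by
      rw [← List.sum_toFinset_count_eq_length, ← smul_eq_mul, ← Finset.sum_const]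
      exact Finset.sum_le_sum fun z hz => hall z (List.mem_toFinset.1 hz)
    exact hlt (h3.trans (Nat.mul_le_mul_right _ h2))
  obtain ⟨r, hr1, hr2, hr3, -⟩ := collect hE y (orderOf y) l hl ((hord y (hl y hy)).trans hcnt.le)
  rw [pow_orderOf_eq_one, one_mul] at hr3
  have h4 := Nat.find_min' hex ⟨r, rfl, hr2, hr3.trans hp⟩
  have := orderOf_pos y
  omega

end CfsgLib.FgsC.RankThree
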